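import Cfsg.Agent.Lib.T3.Fac
import Cfsg.Agent.Lib.T3.Hlp

/-! The Sylow 2-subgroup of `L₅(2)`: letters `a b c d p m q e f z` (generated). -/

set_option autoImplicit false
set_option maxRecDepth 100000

namespace Cfsg.Lib.U5

open Cfsg.Lib.Calc Cfsg.Lib.T2 Cfsg.Lib.T3 Cfsg.Lib.Grp Subgroup

def um_L0 : List (ℕ × List ℕ) := [((nat_lit 2), [(nat_lit 0xfedcba9876543210), (nat_lit 0xefdcab9867542310), (nat_lit 0x76543210fedcba98), (nat_lit 0xba98fedc32107654), (nat_lit 0xdcfe98ba54761032), (nat_lit 0x67542310efdcab98), (nat_lit 0xab98efdc23106754), (nat_lit 0xcdfe89ba45760132), (nat_lit 0x76543210ba98fedc), (nat_lit 0x76543210dcfe98ba), (nat_lit 0xba98dcfe32105476), (nat_lit 0x67542310ab98efdc), (nat_lit 0x67542310cdfe89ba), (nat_lit 0xab98cdfe23104576), (nat_lit 0x54763210ba98dcfe), (nat_lit 0x45762310ab98cdfe)]),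
  ((nat_lit 4), [(nat_lit 0xfedcba9876543210), (nat_lit 0x98bafedc54763210), (nat_lit 0xfecdba8976453201), (nat_lit 0x98abfecd54673201)]),
  ((nat_lit 8), [(nat_lit 0xfedcba9876543210), (nat_lit 0x98badcfe76543210), (nat_lit 0x89abcdef76543210), (nat_lit 0xdcfe98ba76543210), (nat_lit 0xefdcba8967543201), (nat_lit 0xba98fedc76543210), (nat_lit 0xab89efcd76543210), (nat_lit 0xcdfe98ab67543201)]),
  ((nat_lit 0), [(nat_lit 0xfedcba9876543210), (nat_lit 0xfecdab9867543201)])]

def um_D0 : List ℕ := [(nat_lit 0), (nat_lit 513), (nat_lit 2049), (nat_lit 3585), (nat_lit 4609), (nat_lit 198658), (nat_lit 212482), (nat_lit 225794), (nat_lit 254466), (nat_lit 269314), (nat_lit 302082), (nat_lit 361986), (nat_lit 379906), (nat_lit 418818), (nat_lit 487426), (nat_lit 586754), (nat_lit 0), (nat_lit 40352003), (nat_lit 303362), (nat_lit 3253473540), (nat_lit 0), (nat_lit 80130), (nat_lit 64761091), (nat_lit 4567138564), (nat_lit 4942798596), (nat_lit 445718763781), (nat_lit 512532847877),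 (nat_lit 604217569541), (nat_lit 0), (nat_lit 8658491140)]

def um_L1 : List (ℕ × List ℕ) := [((nat_lit 4), [(nat_lit 0xfedcba9876543210), (nat_lit 0xdcfeba9854763210), (nat_lit 0xefcdba9867453210), (nat_lit 0xcdefba9845673210)]),
  ((nat_lit 8), [(nat_lit 0xfedcba9876543210), (nat_lit 0xefcdab8976543210), (nat_lit 0xdcfe98ba76543210), (nat_lit 0xcdef89ab76543210)]),
  ((nat_lit 0), [(nat_lit 0xfedcba9876543210), (nat_lit 0xefcdba9876542301), (nat_lit 0xdcfeba9876541032), (nat_lit 0xcdefba9876540123)])]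

def um_D1 : List ℕ := [(nat_lit 0), (nat_lit 513), (nat_lit 1025), (nat_lit 82946), (nat_lit 0), (nat_lit 1537), (nat_lit 2561), (nat_lit 174594), (nat_lit 0), (nat_lit 2259203), (nat_lit 3706115), (nat_lit 386350852)]

def um_L2 : List (ℕ × List ℕ) := [((nat_lit 8), [(nat_lit 0xfedcba9876543210), (nat_lit 0xba98fedc76543210), (nat_lit 0xdcfe98ba54761032), (nat_lit 0xefcdab8967452301), (nat_lit 0x98badcfe54761032), (nat_lit 0xab89efcd67452301), (nat_lit 0xcdef89ab45670123), (nat_lit 0x89abcdef45670123)]),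
  ((nat_lit 0), [(nat_lit 0xfedcba9876543210), (nat_lit 0xfedcba9832107654), (nat_lit 0xfedcba9854761032), (nat_lit 0xfedcba9867452301), (nat_lit 0xfedcba9810325476), (nat_lit 0xfedcba9823016745), (nat_lit 0xfedcba9845670123), (nat_lit 0xfedcba9801234567)])]

def um_D2 : List ℕ := [(nat_lit 0), (nat_lit 513), (nat_lit 1537), (nat_lit 2049), (nat_lit 91650), (nat_lit 100354), (nat_lit 121858), (nat_lit 159746), (nat_lit 0), (nat_lit 37122), (nat_lit 91906), (nat_lit 115970), (nat_lit 11931395), (nat_lit 13235459), (nat_lit 15488259), (nat_lit 18973955)]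

def um_L3 : List (ℕ × List ℕ) := [((nat_lit 2), [(nat_lit 0xfedcba9876543210), (nat_lit 0xefdcab9867542310), (nat_lit 0xdcfe98ba54761032), (nat_lit 0xba98fedc32107654), (nat_lit 0x76543210fedcba98), (nat_lit 0xcdfe89ba45760132), (nat_lit 0xab98efdc23106754), (nat_lit 0x67542310efdcab98), (nat_lit 0x98badcfe10325476), (nat_lit 0x54761032dcfe98ba), (nat_lit 0x32107654ba98fedc), (nat_lit 0x89bacdfe01324576), (nat_lit 0x45760132cdfe89ba), (nat_lit 0x23106754ab98efdc), (nat_lit 0x1032547698badcfe), (nat_lit 0x132457689bacdfe)]),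
  ((nat_lit 4), [(nat_lit 0xfedcba9876543210), (nat_lit 0xefcdba9867453210)]),
  ((nat_lit 8), [(nat_lit 0xfedcba9876543210), (nat_lit 0xefcdab8976543210)]),
  ((nat_lit 0), [(nat_lit 0xfedcba9876543210), (nat_lit 0xfecdab9867543201)])]

def um_D3 : List ℕ := [(nat_lit 0), (nat_lit 513), (nat_lit 2561), (nat_lit 3073), (nat_lit 3585), (nat_lit 122370), (nat_lit 132098), (nat_lit 141826), (nat_lit 166914), (nat_lit 177666), (nat_lit 206338), (nat_lit 256002), (nat_lit 269826), (nat_lit 304642), (nat_lit 364034), (nat_lit 451074), (nat_lit 0), (nat_lit 1025), (nat_lit 0), (nat_lit 1537), (nat_lit 0), (nat_lit 416723204)]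

def um_L4 : List (ℕ × List ℕ) := [((nat_lit 2), [(nat_lit 0xfedcba9876543210), (nat_lit 0xefdcab9867542310), (nat_lit 0xba98fedc32107654), (nat_lit 0xab98efdc23106754), (nat_lit 0xba98dcfe32105476), (nat_lit 0xab98cdfe23104576), (nat_lit 0xfedc98ba76541032), (nat_lit 0xefdc89ba67540132)]),
  ((nat_lit 4), [(nat_lit 0xfedcba9876543210), (nat_lit 0xdcfeba9854763210), (nat_lit 0xdcefba8954673201), (nat_lit 0xfecdba8976453201)]),
  ((nat_lit 8), [(nat_lit 0xfedcba9876543210), (nat_lit 0xba98fedc76543210), (nat_lit 0xefdcba8967543201), (nat_lit 0x98badcfe76543210), (nat_lit 0xdcfe98ba76543210), (nat_lit 0xab98fecd67543201), (nat_lit 0x89badcef67543201), (nat_lit 0xcdfe98ab67543201)]),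
  ((nat_lit 0), [(nat_lit 0xfedcba9876543210), (nat_lit 0xfecdab9867543201)])]

def um_D4 : List ℕ := [(nat_lit 0), (nat_lit 513), (nat_lit 2049), (nat_lit 51202), (nat_lit 65538), (nat_lit 82946), (nat_lit 103426), (nat_lit 124930), (nat_lit 0), (nat_lit 1025), (nat_lit 197703428), (nat_lit 246786), (nat_lit 0), (nat_lit 1537), (nat_lit 6678275), (nat_lit 11537667), (nat_lit 695511300), (nat_lit 429570), (nat_lit 962130180), (nat_lit 1262304516), (nat_lit 0), (nat_lit 68033421573)]

def um_L5 : List (ℕ × List ℕ) := [((nat_lit 0), [(nat_lit 0xfedcba9876543210), (nat_lit 0x76543210fedcba98), (nat_lit 0x76543210ba98fedc), (nat_lit 0xfedcba9832107654), (nat_lit 0x54763210ba98dcfe), (nat_lit 0x67453210ba98efcd), (nat_lit 0xdcfeba9832105476), (nat_lit 0xefcdba9832106745), (nat_lit 0x54763210fedc98ba), (nat_lit 0x45673210ba98cdef), (nat_lit 0x67453210fedcab89), (nat_lit 0xcdefba9832104567), (nat_lit 0xdcfeba9876541032), (nat_lit 0x45673210fedc89ab), (nat_lit 0xefcdba9876542301),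 (nat_lit 0xcdefba9876540123)]),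
  ((nat_lit 8), [(nat_lit 0xfedcba9876543210), (nat_lit 0xba98fedc76543210), (nat_lit 0xba98dcfe54763210), (nat_lit 0xba98efcd67453210), (nat_lit 0xfedc98ba54763210), (nat_lit 0xba98cdef45673210), (nat_lit 0xfedcab8967453210), (nat_lit 0xfedc89ab45673210)]),
  ((nat_lit 4), [(nat_lit 0xfedcba9876543210), (nat_lit 0xdcfeba9854763210), (nat_lit 0xefcdba9867453210), (nat_lit 0xcdefba9845673210)])]

def um_D5 : List ℕ := [(nat_lit 0), (nat_lit 513), (nat_lit 44034), (nat_lit 57858), (nat_lit 66050), (nat_lit 73730), (nat_lit 91650), (nat_lit 100354), (nat_lit 120834), (nat_lit 131074), (nat_lit 154626), (nat_lit 182274), (nat_lit 226818), (nat_lit 259074), (nat_lit 292354), (nat_lit 369154), (nat_lit 0), (nat_lit 1025), (nat_lit 519682), (nat_lit 542722), (nat_lit 589826), (nat_lit 614402), (nat_lit 664578), (nat_lit 746498), (nat_lit 0), (nat_lit 1537), (nat_lit 2049), (nat_lit 985090)]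

def um_L6 : List (ℕ × List ℕ) := [((nat_lit 4), [(nat_lit 0xfedcba9876543210), (nat_lit 0xdcfeba9854763210), (nat_lit 0xefcdba9867453210), (nat_lit 0xba98fedc32107654), (nat_lit 0x76543210fedcba98), (nat_lit 0xcdefba9845673210), (nat_lit 0x98bafedc10327654), (nat_lit 0x54763210dcfeba98), (nat_lit 0xab89fedc23017654), (nat_lit 0x67453210efcdba98), (nat_lit 0x32107654ba98fedc), (nat_lit 0x89abfedc01237654), (nat_lit 0x45673210cdefba98), (nat_lit 0x1032765498bafedc), (nat_lit 0x23017654ab89fedc), (nat_lit 0x123765489abfedc)]),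
  ((nat_lit 8), [(nat_lit 0xfedcba9876543210), (nat_lit 0xefcdab8976543210), (nat_lit 0xdcfe98ba76543210), (nat_lit 0xcdef89ab76543210)]),
  ((nat_lit 0), [(nat_lit 0xfedcba9876543210), (nat_lit 0xdcfeba9876541032), (nat_lit 0xdcefab9867541023), (nat_lit 0xfecdab9867543201)]),
  ((nat_lit 2), [(nat_lit 0xfedcba9876543210), (nat_lit 0xefdcab9867542310)])]

def um_D6 : List ℕ := [(nat_lit 0), (nat_lit 513), (nat_lit 1025), (nat_lit 6145), (nat_lit 6657), (nat_lit 292866), (nat_lit 313346), (nat_lit 329218), (nat_lit 366594), (nat_lit 383490), (nat_lit 424450), (nat_lit 492546), (nat_lit 512514), (nat_lit 559618), (nat_lit 637442), (nat_lit 749058), (nat_lit 0), (nat_lit 1537), (nat_lit 2561), (nat_lit 1050114), (nat_lit 0), (nat_lit 15624963), (nat_lit 1293826), (nat_lit 7486514948), (nat_lit 0), (nat_lit 3585)]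

def um_L7 : List (ℕ × List ℕ) := [((nat_lit 8), [(nat_lit 0xfedcba9876543210), (nat_lit 0xba98fedc76543210), (nat_lit 0xdcfe98ba54761032), (nat_lit 0xefcdab8967452301), (nat_lit 0x76543210fedcba98), (nat_lit 0x98badcfe54761032), (nat_lit 0xab89efcd67452301), (nat_lit 0x32107654fedcba98), (nat_lit 0xcdef89ab45670123), (nat_lit 0x54761032dcfe98ba), (nat_lit 0x67452301efcdab89), (nat_lit 0x89abcdef45670123), (nat_lit 0x10325476dcfe98ba), (nat_lit 0x23016745efcdab89), (nat_lit 0x45670123cdef89ab), (nat_lit 0x1234567cdef89ab)]),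
  ((nat_lit 0), [(nat_lit 0xfedcba9876543210), (nat_lit 0xfedcba9854761032), (nat_lit 0xfedcba9832107654), (nat_lit 0xefdcab9854671023), (nat_lit 0xfedcba9810325476), (nat_lit 0xefcdba9832106745), (nat_lit 0xefdcab9876453201), (nat_lit 0xefdcab9810235467)]),
  ((nat_lit 2), [(nat_lit 0xfedcba9876543210), (nat_lit 0xefdcab9867542310)]),
  ((nat_lit 4), [(nat_lit 0xfedcba9876543210), (nat_lit 0xefcdba9867453210)])]

def um_D7 : List ℕ := [(nat_lit 0), (nat_lit 513), (nat_lit 1537), (nat_lit 2049), (nat_lit 6657), (nat_lit 293378), (nat_lit 309250), (nat_lit 329218), (nat_lit 362498), (nat_lit 383490), (nat_lit 424450), (nat_lit 488450), (nat_lit 512514), (nat_lit 559618), (nat_lit 637442), (nat_lit 749058), (nat_lit 0), (nat_lit 167170), (nat_lit 73474), (nat_lit 1051138), (nat_lit 73469699), (nat_lit 1150978), (nat_lit 87781635), (nat_lit 92606211), (nat_lit 0), (nat_lit 3585), (nat_lit 0), (nat_lit 4097)]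

def um_L8 : List (ℕ × List ℕ) := [((nat_lit 2), [(nat_lit 0xfedcba9876543210), (nat_lit 0xefdcab9867542310), (nat_lit 0x76543210fedcba98), (nat_lit 0xba98fedc32107654), (nat_lit 0x67542310efdcab98), (nat_lit 0xab98efdc23106754), (nat_lit 0x32107654ba98fedc), (nat_lit 0xba98dcfe32105476), (nat_lit 0x23106754ab98efdc), (nat_lit 0xab98cdfe23104576), (nat_lit 0x32105476ba98dcfe), (nat_lit 0xfedc98ba76541032), (nat_lit 0x23104576ab98cdfe), (nat_lit 0xefdc89ba67540132), (nat_lit 0x76541032fedc98ba), (nat_lit 0x67540132efdc89ba)]),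
  ((nat_lit 4), [(nat_lit 0xfedcba9876543210), (nat_lit 0xdcfeba9854763210), (nat_lit 0xdcefba8954673201), (nat_lit 0xfecdba8976453201)]),
  ((nat_lit 0), [(nat_lit 0xfedcba9876543210), (nat_lit 0xefdcba8967543201)])]

def um_D8 : List ℕ := [(nat_lit 0), (nat_lit 513), (nat_lit 1537), (nat_lit 2049), (nat_lit 56834), (nat_lit 63490), (nat_lit 80898), (nat_lit 99330), (nat_lit 121858), (nat_lit 144386), (nat_lit 169986), (nat_lit 198658), (nat_lit 227330), (nat_lit 260098), (nat_lit 293890), (nat_lit 350210), (nat_lit 0), (nat_lit 1025), (nat_lit 1109423364), (nat_lit 566274), (nat_lit 0), (nat_lit 16646403)]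

def um_L9 : List (ℕ × List ℕ) := [((nat_lit 4), [(nat_lit 0xfedcba9876543210), (nat_lit 0xefcdba9867453210), (nat_lit 0xba98fedc32107654), (nat_lit 0xdcfe98ba54761032), (nat_lit 0xab89fedc23017654), (nat_lit 0xcdef98ba45671032), (nat_lit 0x98badcfe10325476), (nat_lit 0x89abdcfe01235476)]),
  ((nat_lit 8), [(nat_lit 0xfedcba9876543210), (nat_lit 0xdcfe98ba76543210), (nat_lit 0xefcdab8976543210), (nat_lit 0xcdef89ab76543210)]),
  ((nat_lit 0), [(nat_lit 0xfedcba9876543210), (nat_lit 0xefcdba9876542301)])]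

def um_D9 : List ℕ := [(nat_lit 0), (nat_lit 513), (nat_lit 1537), (nat_lit 2561), (nat_lit 91650), (nat_lit 100866), (nat_lit 122370), (nat_lit 160258), (nat_lit 0), (nat_lit 1025), (nat_lit 2049), (nat_lit 296962), (nat_lit 0), (nat_lit 5098243)]

def um_L10 : List (ℕ × List ℕ) := [((nat_lit 8), [(nat_lit 0xfedcba9876543210), (nat_lit 0xefcdab8976543210), (nat_lit 0xdcfe98ba54761032), (nat_lit 0xcdef89ab54761032)]),
  ((nat_lit 0), [(nat_lit 0xfedcba9876543210), (nat_lit 0xfedcba9867452301)])]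

def um_D10 : List ℕ := [(nat_lit 0), (nat_lit 513), (nat_lit 1025), (nat_lit 36866), (nat_lit 0), (nat_lit 30466)]

def um_L11 : List (ℕ × List ℕ) := [((nat_lit 8), [(nat_lit 0xfedcba9876543210), (nat_lit 0xefcdab8976543210), (nat_lit 0xdcfe98ba76543210), (nat_lit 0xba98fedc76543210), (nat_lit 0xcdef89ab76543210), (nat_lit 0xab89efcd76543210), (nat_lit 0x98badcfe76543210), (nat_lit 0x89abcdef76543210)])]

def um_D11 : List ℕ := [(nat_lit 0), (nat_lit 513), (nat_lit 1025), (nat_lit 1537), (nat_lit 41986), (nat_lit 47618), (nat_lit 62978), (nat_lit 91650)]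

def um_L12 : List (ℕ × List ℕ) := [((nat_lit 0), [(nat_lit 0xfedcba9876543210), (nat_lit 0xdcfe98ba54761032)]),
  ((nat_lit 8), [(nat_lit 0xfedcba9876543210), (nat_lit 0xdcfe98ba76543210)]),
  ((nat_lit 4), [(nat_lit 0xfedcba9876543210), (nat_lit 0xdcfeba9854763210)])]

def um_D12 : List ℕ := [(nat_lit 0), (nat_lit 513), (nat_lit 0), (nat_lit 1025), (nat_lit 0), (nat_lit 1537)]

def um_L13 : List (ℕ × List ℕ) := [((nat_lit 4), [(nat_lit 0xfedcba9876543210), (nat_lit 0xefcdba9867453210), (nat_lit 0xdcfe98ba54761032), (nat_lit 0xcdef98ba45671032)]),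
  ((nat_lit 8), [(nat_lit 0xfedcba9876543210), (nat_lit 0xefcdab8976543210)]),
  ((nat_lit 0), [(nat_lit 0xfedcba9876543210), (nat_lit 0xefcdba9876542301)])]

def um_D13 : List ℕ := [(nat_lit 0), (nat_lit 513), (nat_lit 1537), (nat_lit 50690), (nat_lit 0), (nat_lit 1025), (nat_lit 0), (nat_lit 1264899)]

def um_L14 : List (ℕ × List ℕ) := [((nat_lit 4), [(nat_lit 0xfedcba9876543210), (nat_lit 0xefcdba9867453210), (nat_lit 0x76543210fedcba98), (nat_lit 0xdcfe98ba54761032), (nat_lit 0x67453210efcdba98), (nat_lit 0xcdef98ba45671032), (nat_lit 0x54761032dcfe98ba), (nat_lit 0x45671032cdef98ba)]),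
  ((nat_lit 0), [(nat_lit 0xfedcba9876543210), (nat_lit 0xfedcab8976542301)])]

def um_D14 : List ℕ := [(nat_lit 0), (nat_lit 513), (nat_lit 1025), (nat_lit 1537), (nat_lit 56322), (nat_lit 62978), (nat_lit 80386), (nat_lit 112130), (nat_lit 0), (nat_lit 60674)]

def um_L15 : List (ℕ × List ℕ) := [((nat_lit 4), [(nat_lit 0xfedcba9876543210), (nat_lit 0xefcdba9867453210), (nat_lit 0xdcfe98ba54761032), (nat_lit 0xcdef98ba45671032)]),
  ((nat_lit 0), [(nat_lit 0xfedcba9876543210), (nat_lit 0xfedcab8976542301)])]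

def um_D15 : List ℕ := [(nat_lit 0), (nat_lit 513), (nat_lit 1025), (nat_lit 36866), (nat_lit 0), (nat_lit 30466)]

def um_L16 : List (ℕ × List ℕ) := [((nat_lit 0), [(nat_lit 0xfedcba9876543210), (nat_lit 0xdcfe98ba54761032), (nat_lit 0xefcdab8967452301), (nat_lit 0xcdef89ab45670123)])]

def um_D16 : List ℕ := [(nat_lit 0), (nat_lit 513), (nat_lit 1025), (nat_lit 25602)]

def um_L17 : List (ℕ × List ℕ) := [((nat_lit 8), [(nat_lit 0xfedcba9876543210), (nat_lit 0xefcdab8976543210)]),
  ((nat_lit 0), [(nat_lit 0xfedcba9876543210), (nat_lit 0xfedcba9867452301)])]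

def um_D17 : List ℕ := [(nat_lit 0), (nat_lit 513), (nat_lit 0), (nat_lit 14594)]

def um_L18 : List (ℕ × List ℕ) := [((nat_lit 0), [(nat_lit 0xfedcba9876543210), (nat_lit 0x76543210fedcba98), (nat_lit 0xba98fedc32107654), (nat_lit 0xdcfe98ba54761032), (nat_lit 0xefcdab8967452301), (nat_lit 0x32107654ba98fedc), (nat_lit 0x54761032dcfe98ba), (nat_lit 0x67452301efcdab89), (nat_lit 0x98badcfe10325476), (nat_lit 0xab89efcd23016745), (nat_lit 0xcdef89ab45670123), (nat_lit 0x1032547698badcfe), (nat_lit 0x23016745ab89efcd), (nat_lit 0x45670123cdef89ab), (nat_lit 0x89abcdef01234567), (nat_lit 0x123456789abcdef)])]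

def um_D18 : List ℕ := [(nat_lit 0), (nat_lit 513), (nat_lit 1025), (nat_lit 1537), (nat_lit 2049), (nat_lit 62466), (nat_lit 69122), (nat_lit 75778), (nat_lit 94722), (nat_lit 102402), (nat_lit 124930), (nat_lit 165378), (nat_lit 176130), (nat_lit 204802), (nat_lit 254978), (nat_lit 329730)]

def um_L19 : List (ℕ × List ℕ) := [((nat_lit 0), [(nat_lit 0xfedcba9876543210), (nat_lit 0x67453210efcdba98), (nat_lit 0xab89efcd32107654), (nat_lit 0xdcfe98ba54761032), (nat_lit 0xefcdab8967452301), (nat_lit 0x23017654ba98efcd), (nat_lit 0x45671032cdef98ba), (nat_lit 0x76542301fedcab89), (nat_lit 0x89abcdef10325476), (nat_lit 0xba98fedc23016745), (nat_lit 0xcdef89ab45670123), (nat_lit 0x123547698bacdef), (nat_lit 0x32106745ab89fedc), (nat_lit 0x54760123dcfe89ab), (nat_lit 0x98badcfe01234567), (nat_lit 0x1032456789abdcfe)])]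

def um_D19 : List ℕ := [(nat_lit 0), (nat_lit 513), (nat_lit 1025), (nat_lit 1537), (nat_lit 2049), (nat_lit 62466), (nat_lit 69122), (nat_lit 75778), (nat_lit 94722), (nat_lit 102402), (nat_lit 124930), (nat_lit 165378), (nat_lit 176130), (nat_lit 204802), (nat_lit 254978), (nat_lit 329730)]

def um_L20 : List (ℕ × List ℕ) := [((nat_lit 2), [(nat_lit 0xfedcba9876543210), (nat_lit 0xefdcab9867542310)]),
  ((nat_lit 4), [(nat_lit 0xfedcba9876543210), (nat_lit 0xdcfeba9854763210), (nat_lit 0xcdefba9845673210), (nat_lit 0xefcdba9867453210)]),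
  ((nat_lit 8), [(nat_lit 0xfedcba9876543210), (nat_lit 0xba98fedc76543210), (nat_lit 0x98badcfe76543210), (nat_lit 0x89abcdef76543210), (nat_lit 0xdcfe98ba76543210), (nat_lit 0xcdef89ab76543210), (nat_lit 0xefcdab8976543210), (nat_lit 0xab89efcd76543210)])]

def um_D20 : List ℕ := [(nat_lit 0), (nat_lit 513), (nat_lit 0), (nat_lit 1025), (nat_lit 674563), (nat_lit 21752580), (nat_lit 0), (nat_lit 1537), (nat_lit 2105091), (nat_lit 2813187), (nat_lit 126490372), (nat_lit 155800836), (nat_lit 205574404), (nat_lit 286522628)]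

def um_L21 : List (ℕ × List ℕ) := [((nat_lit 8), [(nat_lit 0xfedcba9876543210), (nat_lit 0xdcfe98ba76543210), (nat_lit 0xefcdab8976543210), (nat_lit 0xba98fedc32107654), (nat_lit 0x76543210fedcba98), (nat_lit 0xdcef98ab67542310), (nat_lit 0x98badcfe32107654), (nat_lit 0x54761032fedcba98), (nat_lit 0xab89efcd32107654), (nat_lit 0x67452301fedcba98), (nat_lit 0x32107654ba98fedc), (nat_lit 0x98abdcef23106754), (nat_lit 0x54671023efdcab98), (nat_lit 0x10325476ba98fedc), (nat_lit 0x23016745ba98fedc), (nat_lit 0x10235467ab98efdc)]),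
  ((nat_lit 2), [(nat_lit 0xfedcba9876543210), (nat_lit 0xefdcab9845760132), (nat_lit 0xefdcab9867542310), (nat_lit 0xefdcab9854671023)]),
  ((nat_lit 4), [(nat_lit 0xfedcba9876543210), (nat_lit 0xefcdba9867453210)]),
  ((nat_lit 0), [(nat_lit 0xfedcba9876543210), (nat_lit 0xfecdab9867543201)])]

def um_D21 : List ℕ := [(nat_lit 0), (nat_lit 513), (nat_lit 2049), (nat_lit 3585), (nat_lit 4097), (nat_lit 144386), (nat_lit 157186), (nat_lit 167938), (nat_lit 195074), (nat_lit 206850), (nat_lit 237570), (nat_lit 290306), (nat_lit 305154), (nat_lit 342018), (nat_lit 404482), (nat_lit 495618), (nat_lit 0), (nat_lit 19547907), (nat_lit 1025), (nat_lit 17855747), (nat_lit 0), (nat_lit 1537), (nat_lit 0), (nat_lit 3494739204)]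

def um_L22 : List (ℕ × List ℕ) := [((nat_lit 0), [(nat_lit 0xfedcba9876543210), (nat_lit 0xba98fedc32107654), (nat_lit 0xdcfe98ba54761032), (nat_lit 0xefcdab8967452301), (nat_lit 0x98badcfe10325476), (nat_lit 0xab89efcd23016745), (nat_lit 0xcdef89ab45670123), (nat_lit 0x89abcdef01234567)])]

def um_D22 : List ℕ := [(nat_lit 0), (nat_lit 513), (nat_lit 1025), (nat_lit 1537), (nat_lit 41986), (nat_lit 47618), (nat_lit 62978), (nat_lit 91650)]

def um_L23 : List (ℕ × List ℕ) := [((nat_lit 0), [(nat_lit 0xfedcba9876543210), (nat_lit 0xefcdab8967452301)])]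

def um_D23 : List ℕ := [(nat_lit 0), (nat_lit 513)]

def um_L24 : List (ℕ × List ℕ) := [((nat_lit 4), [(nat_lit 0xfedcba9876543210), (nat_lit 0xdcfeba9854763210), (nat_lit 0xefcdba9867453210), (nat_lit 0xba98fedc32107654), (nat_lit 0x76543210fedcba98), (nat_lit 0xdcefab9854672310), (nat_lit 0x98bafedc10327654), (nat_lit 0x54763210dcfeba98), (nat_lit 0xab89fedc23017654), (nat_lit 0x67453210efcdba98), (nat_lit 0x32107654ba98fedc), (nat_lit 0x98abefdc10236754), (nat_lit 0x54672310dcefab98), (nat_lit 0x1032765498bafedc), (nat_lit 0x23017654ab89fedc), (nat_lit 0x1023675498abefdc)]),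
  ((nat_lit 2), [(nat_lit 0xfedcba9876543210), (nat_lit 0xefdc89ba67540132), (nat_lit 0xefdcab9867542310), (nat_lit 0xefdc98ab67541023)]),
  ((nat_lit 8), [(nat_lit 0xfedcba9876543210), (nat_lit 0xefcdab8976543210)]),
  ((nat_lit 0), [(nat_lit 0xfedcba9876543210), (nat_lit 0xfecdab9867543201)])]

def um_D24 : List ℕ := [(nat_lit 0), (nat_lit 513), (nat_lit 1537), (nat_lit 3585), (nat_lit 4097), (nat_lit 144386), (nat_lit 157186), (nat_lit 167938), (nat_lit 195074), (nat_lit 206850), (nat_lit 237570), (nat_lit 290306), (nat_lit 305154), (nat_lit 342018), (nat_lit 404482), (nat_lit 495618), (nat_lit 0), (nat_lit 19547907), (nat_lit 1025), (nat_lit 17855747), (nat_lit 0), (nat_lit 2049), (nat_lit 0), (nat_lit 3494739204)]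

def um_L25 : List (ℕ × List ℕ) := [((nat_lit 4), [(nat_lit 0xfedcba9876543210), (nat_lit 0xdcfeba9854763210), (nat_lit 0xefcdba9867453210), (nat_lit 0xba98fedc32107654), (nat_lit 0xcdefba9845673210), (nat_lit 0x98bafedc10327654), (nat_lit 0xab89fedc23017654), (nat_lit 0x89abfedc01237654)]),
  ((nat_lit 8), [(nat_lit 0xfedcba9876543210), (nat_lit 0xefcdab8976543210), (nat_lit 0xdcfe98ba76543210), (nat_lit 0xba98fedc76543210), (nat_lit 0xcdef89ab76543210), (nat_lit 0xab89efcd76543210), (nat_lit 0x98badcfe76543210), (nat_lit 0x89abcdef76543210)]),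
  ((nat_lit 0), [(nat_lit 0xfedcba9876543210), (nat_lit 0xefcdba9876542301), (nat_lit 0xdcfeba9876541032), (nat_lit 0xcdefba9876540123)])]

def um_D25 : List ℕ := [(nat_lit 0), (nat_lit 513), (nat_lit 1025), (nat_lit 4097), (nat_lit 244738), (nat_lit 262146), (nat_lit 295938), (nat_lit 352258), (nat_lit 0), (nat_lit 1537), (nat_lit 2561), (nat_lit 3585), (nat_lit 565762), (nat_lit 589314), (nat_lit 639490), (nat_lit 720386), (nat_lit 0), (nat_lit 7860483), (nat_lit 12281091), (nat_lit 4039601924)]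

def um_L26 : List (ℕ × List ℕ) := [((nat_lit 8), [(nat_lit 0xfedcba9876543210), (nat_lit 0xefcdab8976543210), (nat_lit 0xdcfe98ba76543210), (nat_lit 0xba98fedc76543210), (nat_lit 0xcdef89ab76543210), (nat_lit 0xab89efcd76543210), (nat_lit 0x98badcfe76543210), (nat_lit 0x89abcdef76543210)]),
  ((nat_lit 2), [(nat_lit 0xfedcba9876543210), (nat_lit 0xefdcab9867542310)])]

def um_D26 : List ℕ := [(nat_lit 0), (nat_lit 513), (nat_lit 1025), (nat_lit 1537), (nat_lit 56322), (nat_lit 62978), (nat_lit 80386), (nat_lit 112130), (nat_lit 0), (nat_lit 2049)]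

def um_L27 : List (ℕ × List ℕ) := [((nat_lit 0), [(nat_lit 0xfedcba9876543210), (nat_lit 0xdcfe98ba54761032), (nat_lit 0x76543210fedcba98), (nat_lit 0x54761032dcfe98ba)]),
  ((nat_lit 8), [(nat_lit 0xfedcba9876543210), (nat_lit 0xdcfe98ba76543210)]),
  ((nat_lit 4), [(nat_lit 0xfedcba9876543210), (nat_lit 0xdcfeba9854763210)])]

def um_D27 : List ℕ := [(nat_lit 0), (nat_lit 513), (nat_lit 2049), (nat_lit 51202), (nat_lit 0), (nat_lit 1025), (nat_lit 0), (nat_lit 1537)]

def um : PM :=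
  ⟨(nat_lit 16), (nat_lit 4), [(nat_lit 0xefdcab9867542310), (nat_lit 0xdcfeba9854763210), (nat_lit 0xba98fedc76543210), (nat_lit 0x76543210fedcba98), (nat_lit 0xefcdba9867453210), (nat_lit 0xdcfe98ba76543210), (nat_lit 0xba98fedc32107654), (nat_lit 0xefcdab8976543210), (nat_lit 0xdcfe98ba54761032), (nat_lit 0xefcdab8967452301)],
    [[.l 1, .l 2, .l 3, .l 4, .l 5, .l 6, .l 7, .l 8, .l 9, .l 10],
    [.l 2, .l 5, .l 8, .l 10, .l 6, .l 9],
    [.l 3, .l 7, .l 9, .l 10, .l 6, .l 8],
    [.l 1, .l 5, .l 8, .l 10, .l 9, .l 7, .l 4],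
    [.l 1, .l 2, .l 3, .l 7],
    [.l 4, .l 3, .l 2, .l 5],
    [.l 2, .l 5, .l 8, .l 10, .l 6, .l 9, .l 1, .l 5, .l 8, .l 10, .l 9, .l 7, .l 4],
    [.l 3, .l 7, .l 9, .l 10, .l 6, .l 8, .l 1, .l 5, .l 8, .l 10, .l 9, .l 7, .l 4],
    [.l 1, .l 2, .l 4, .l 7],
    [.l 5, .l 6, .l 7, .l 8, .l 9, .l 10],
    [.l 8, .l 9, .l 10],
    [.l 8, .l 6, .l 3],
    [.l 9, .l 6, .l 2],
    [.l 5, .l 8, .l 9, .l 10],
    [.l 5, .l 4, .l 9, .l 10],
    [.l 5, .l 9, .l 10],
    [.l 9, .l 10],
    [.l 8, .l 10],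
    [.l 4, .l 7, .l 9, .l 10],
    [.mul (.l 4) (.l 5), .mul (.l 7) (.l 8), .l 9, .l 10],
    [.l 1, .l 2, .l 3],
    [.l 6, .l 1, .l 5, .l 8, .l 10, .l 9, .l 7, .l 4],
    [.l 7, .l 9, .l 10],
    [.l 10],
    [.l 2, .l 1, .l 5, .l 8, .l 10, .l 9, .l 7, .l 4],
    [.l 2, .l 5, .l 8, .l 10, .l 6, .l 9, .l 3, .l 7, .l 9, .l 10, .l 6, .l 8],
    [.l 8, .l 6, .l 3, .l 1],
    [.l 9, .l 6, .l 2, .l 4]],
    [um_L0, um_L1, um_L2, um_L3, um_L4, um_L5, um_L6, um_L7, um_L8, um_L9, um_L10, um_L11, um_L12, um_L13, um_L14, um_L15, um_L16, um_L17, um_L18, um_L19, um_L20, um_L21, um_L22, um_L23, um_L24, um_L25, um_L26, um_L27], [um_D0, um_D1, um_D2, um_D3, um_D4, um_D5, um_D6, um_D7, um_D8, um_D9, um_D10, um_D11, um_D12, um_D13, um_D14, um_D15, um_D16, um_D17, um_D18, um_D19, um_D20, um_D21, um_D22, um_D23, um_D24, um_D25, um_D26, um_D27]⟩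

instance um_ne : NeZero um.n := ⟨by decide⟩

theorem um_ok0 : um.ok0 = true := by decide +kernel

theorem um_k0 : allFrom (nat_lit 0) (nat_lit 1) um.okK = true := by decide +kernel

theorem um_k1 : allFrom (nat_lit 1) (nat_lit 1) um.okK = true := by decide +kernel

theorem um_k2 : allFrom (nat_lit 2) (nat_lit 1) um.okK = true := by decide +kernel

theorem um_k3 : allFrom (nat_lit 3) (nat_lit 1) um.okK = true := by decide +kernel

theorem um_k4 : allFrom (nat_lit 4) (nat_lit 1) um.okK = true := by decide +kernel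

theorem um_k5 : allFrom (nat_lit 5) (nat_lit 1) um.okK = true := by decide +kernel

theorem um_k6 : allFrom (nat_lit 6) (nat_lit 1) um.okK = true := by decide +kernel

theorem um_k7 : allFrom (nat_lit 7) (nat_lit 1) um.okK = true := by decide +kernel

theorem um_k8 : allFrom (nat_lit 8) (nat_lit 1) um.okK = true := by decide +kernel

theorem um_k9 : allFrom (nat_lit 9) (nat_lit 1) um.okK = true := by decide +kernel

theorem um_k10 : allFrom (nat_lit 10) (nat_lit 1) um.okK = true := by decide +kernel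

theorem um_k11 : allFrom (nat_lit 11) (nat_lit 1) um.okK = true := by decide +kernel

theorem um_k12 : allFrom (nat_lit 12) (nat_lit 1) um.okK = true := by decide +kernel

theorem um_k13 : allFrom (nat_lit 13) (nat_lit 1) um.okK = true := by decide +kernel

theorem um_k14 : allFrom (nat_lit 14) (nat_lit 1) um.okK = true := by decide +kernel

theorem um_k15 : allFrom (nat_lit 15) (nat_lit 1) um.okK = true := by decide +kernel

theorem um_k16 : allFrom (nat_lit 16) (nat_lit 1) um.okK = true := by decide +kernel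

theorem um_k17 : allFrom (nat_lit 17) (nat_lit 1) um.okK = true := by decide +kernel

theorem um_k18 : allFrom (nat_lit 18) (nat_lit 1) um.okK = true := by decide +kernel

theorem um_k19 : allFrom (nat_lit 19) (nat_lit 1) um.okK = true := by decide +kernel

theorem um_k20 : allFrom (nat_lit 20) (nat_lit 1) um.okK = true := by decide +kernel

theorem um_k21 : allFrom (nat_lit 21) (nat_lit 1) um.okK = true := by decide +kernel

theorem um_k22 : allFrom (nat_lit 22) (nat_lit 1) um.okK = true := by decide +kernel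

theorem um_k23 : allFrom (nat_lit 23) (nat_lit 1) um.okK = true := by decide +kernel

theorem um_k24 : allFrom (nat_lit 24) (nat_lit 1) um.okK = true := by decide +kernel

theorem um_k25 : allFrom (nat_lit 25) (nat_lit 1) um.okK = true := by decide +kernel

theorem um_k26 : allFrom (nat_lit 26) (nat_lit 1) um.okK = true := by decide +kernel

theorem um_k27 : allFrom (nat_lit 27) (nat_lit 1) um.okK = true := by decide +kernel

theorem um_ok : um.OK := PM.OK.of_check um_ok0
  (of_allFrom_append (of_allFrom_append (of_allFrom_append (of_allFrom_append (of_allFrom_append (of_allFrom_append (of_allFrom_append (of_allFrom_append (of_allFrom_append (of_allFrom_append (of_allFrom_append (of_allFrom_append (of_allFrom_append (of_allFrom_append (of_allFrom_append (of_allFrom_append (of_allFrom_append (of_allFrom_append (of_allFrom_append (of_allFrom_append (of_allFrom_append (of_allFrom_append (of_allFrom_append (of_allFrom_append (of_allFrom_append (of_allFrom_append (of_allFrom_append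 (of_allFrom_append of_lt_zero um_k0) um_k1) um_k2) um_k3) um_k4) um_k5) um_k6) um_k7) um_k8) um_k9) um_k10) um_k11) um_k12) um_k13) um_k14) um_k15) um_k16) um_k17) um_k18) um_k19) um_k20) um_k21) um_k22) um_k23) um_k24) um_k25) um_k26) um_k27)

theorem um_card0 : Nat.card (genW um.gam (um.ws 0)) = 1024 := (um_ok.card 0).trans (by decide +kernel)

theorem um_card1 : Nat.card (genW um.gam (um.ws 1)) = 64 := (um_ok.card 1).trans (by decide +kernel)

theorem um_card2 : Nat.card (genW um.gam (um.ws 2)) = 64 := (um_ok.card 2).trans (by decide +kernel)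

theorem um_card3 : Nat.card (genW um.gam (um.ws 3)) = 128 := (um_ok.card 3).trans (by decide +kernel)

theorem um_card4 : Nat.card (genW um.gam (um.ws 4)) = 512 := (um_ok.card 4).trans (by decide +kernel)

theorem um_card5 : Nat.card (genW um.gam (um.ws 5)) = 512 := (um_ok.card 5).trans (by decide +kernel)

theorem um_card6 : Nat.card (genW um.gam (um.ws 6)) = 512 := (um_ok.card 6).trans (by decide +kernel)

theorem um_card7 : Nat.card (genW um.gam (um.ws 7)) = 512 := (um_ok.card 7).trans (by decide +kernel)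

theorem um_card8 : Nat.card (genW um.gam (um.ws 8)) = 128 := (um_ok.card 8).trans (by decide +kernel)

theorem um_card9 : Nat.card (genW um.gam (um.ws 9)) = 64 := (um_ok.card 9).trans (by decide +kernel)

theorem um_card10 : Nat.card (genW um.gam (um.ws 10)) = 8 := (um_ok.card 10).trans (by decide +kernel)

theorem um_card11 : Nat.card (genW um.gam (um.ws 11)) = 8 := (um_ok.card 11).trans (by decide +kernel)

theorem um_card12 : Nat.card (genW um.gam (um.ws 12)) = 8 := (um_ok.card 12).trans (by decide +kernel)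

theorem um_card13 : Nat.card (genW um.gam (um.ws 13)) = 16 := (um_ok.card 13).trans (by decide +kernel)

theorem um_card14 : Nat.card (genW um.gam (um.ws 14)) = 16 := (um_ok.card 14).trans (by decide +kernel)

theorem um_card15 : Nat.card (genW um.gam (um.ws 15)) = 8 := (um_ok.card 15).trans (by decide +kernel)

theorem um_card16 : Nat.card (genW um.gam (um.ws 16)) = 4 := (um_ok.card 16).trans (by decide +kernel)

theorem um_card17 : Nat.card (genW um.gam (um.ws 17)) = 4 := (um_ok.card 17).trans (by decide +kernel)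

theorem um_card18 : Nat.card (genW um.gam (um.ws 18)) = 16 := (um_ok.card 18).trans (by decide +kernel)

theorem um_card19 : Nat.card (genW um.gam (um.ws 19)) = 16 := (um_ok.card 19).trans (by decide +kernel)

theorem um_card20 : Nat.card (genW um.gam (um.ws 20)) = 64 := (um_ok.card 20).trans (by decide +kernel)

theorem um_card21 : Nat.card (genW um.gam (um.ws 21)) = 256 := (um_ok.card 21).trans (by decide +kernel)

theorem um_card22 : Nat.card (genW um.gam (um.ws 22)) = 8 := (um_ok.card 22).trans (by decide +kernel)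

theorem um_card23 : Nat.card (genW um.gam (um.ws 23)) = 2 := (um_ok.card 23).trans (by decide +kernel)

theorem um_card24 : Nat.card (genW um.gam (um.ws 24)) = 256 := (um_ok.card 24).trans (by decide +kernel)

theorem um_card25 : Nat.card (genW um.gam (um.ws 25)) = 256 := (um_ok.card 25).trans (by decide +kernel)

theorem um_card26 : Nat.card (genW um.gam (um.ws 26)) = 16 := (um_ok.card 26).trans (by decide +kernel)

theorem um_card27 : Nat.card (genW um.gam (um.ws 27)) = 16 := (um_ok.card 27).trans (by decide +kernel)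

def ub_L0 : List (ℕ × List ℕ) := [((nat_lit 2), [(nat_lit 0xffbbcdeb38bdab49ca307b9ac5a928398a418820), (nat_lit 0xbdab49ca30ffbbcdeb3873dac52d2831ca410c20), (nat_lit 0xf7fbcd6f38b5eb494e30398a4188207b9ac5a928), (nat_lit 0xb5eb494e30f7fbcd6f3831ca410c2073dac52d28), (nat_lit 0xe77fed6f38a56f694e30398a4188205a9287b9ac), (nat_lit 0xa56f694e30e77fed6f3831ca410c2052d2873dac), (nat_lit 0xc677af7fbca56f694e30290e6188205a9286b1ee), (nat_lit 0xe77dfdeb38a56d79ca307b9ac5a92818820398a4), (nat_lit 0xa56f694e30c677af7fbc214e610c2052d28635ee), (nat_lit 0xa56d79ca30e77dfdeb3873dac52d2810c2031ca4), (nat_lit 0xc677ae77feb5eb494e30290e6188207b9ac4a16a), (nat_lit 0xc675bffbbca56d79ca306b1ee5a92818820290e6), (nat_lit 0xb5eb494e30c677ae77fe214e610c2073dac4256a), (nat_lit 0xa56d79ca30c675bffbbc635ee52d2810c20214e6), (nat_lit 0xc675be77dfbdab49ca306b1ee5a928398a408062), (nat_lit 0xbdab49ca30c675be77df635ee52d2831ca400462)]),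
  ((nat_lit 4), [(nat_lit 0xffbbcdeb38bdab49ca307b9ac5a928398a418820), (nat_lit 0xdeb38ffbbcbdab49ca306b1ee5a928290e618820), (nat_lit 0xa56d784653c675be77df635ee52d28290c718801), (nat_lit 0xa56d784653e77dfc675b73dac52d283988518801)]),
  ((nat_lit 8), [(nat_lit 0xffbbcdeb38bdab49ca307b9ac5a928398a418820), (nat_lit 0xef3fedeb38ad2f69ca305a9287b9ac398a418820), (nat_lit 0xffbbcce37aad2f69ca304a16a6b1ee398a418820), (nat_lit 0x94e11a56d7d6f19e77df52d287b98d31ca418801), (nat_lit 0xef3fece37abdab49ca306b1ee4a16a398a418820), (nat_lit 0x94e11b5e95d6f19f7f9d73dac5a90931ca418801), (nat_lit 0x94e11b5e95c675be77df635ee4a14b31ca418801), (nat_lit 0x94e11a56d7c675bf7f9d4256a6b1cf31ca418801)]),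
  ((nat_lit 0), [(nat_lit 0xffbbcdeb38bdab49ca307b9ac5a928398a418820), (nat_lit 0x84653a56d7c675be77df7b98d52d2831ca418801)])]

def ub_D0 : List ℕ := [(nat_lit 0), (nat_lit 513), (nat_lit 2049), (nat_lit 51202), (nat_lit 66050), (nat_lit 83458), (nat_lit 102402), (nat_lit 112642), (nat_lit 134146), (nat_lit 145410), (nat_lit 170498), (nat_lit 182274), (nat_lit 227842), (nat_lit 241666), (nat_lit 293890), (nat_lit 350210), (nat_lit 0), (nat_lit 1025), (nat_lit 1108339460), (nat_lit 566274), (nat_lit 0), (nat_lit 1537), (nat_lit 32940291), (nat_lit 2355496708), (nat_lit 2635323652), (nat_lit 861698), (nat_lit 3460075780), (nat_lit 4072779012), (nat_lit 0), (nat_lit 26083075)]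

def ub : PM :=
  ⟨(nat_lit 32), (nat_lit 5), [(nat_lit 0xbdab49ca30ffbbcdeb3873dac52d2831ca410c20), (nat_lit 0xdeb38ffbbcbdab49ca306b1ee5a928290e618820), (nat_lit 0xef3fedeb38ad2f69ca305a9287b9ac398a418820), (nat_lit 0xf7fbcd6f38b5eb494e30398a4188207b9ac5a928), (nat_lit 0xdeb38ffbbc9ca30bdab473d8d5a92831c8518820), (nat_lit 0xef3fece37abdab49ca306b1ee4a16a398a418820), (nat_lit 0xf7f9ddeb38b5e959ca305a9287b9ac18820398a4), (nat_lit 0xef3fece37aad2f68c27273d8d52d09398a418820), (nat_lit 0xf7f9dd6f19bdab49ca306b1ee4a16a290e608062), (nat_lit 0xf7f9dd6f19b5e9594e1173d8d52d0931c8510c01)],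
    [[.l 1, .l 2, .l 3, .l 4]],
    [ub_L0], [ub_D0]⟩

instance ub_ne : NeZero ub.n := ⟨by decide⟩

theorem ub_ok0 : ub.ok0 = true := by decide +kernel

theorem ub_k0 : allFrom (nat_lit 0) (nat_lit 1) ub.okK = true := by decide +kernel

theorem ub_ok : ub.OK := PM.OK.of_check ub_ok0
  (of_allFrom_append of_lt_zero ub_k0)

theorem ub_card0 : Nat.card (genW ub.gam (ub.ws 0)) = 1024 := (ub_ok.card 0).trans (by decide +kernel)

/-- a table -/
def be_pi (j : ℕ) : ℕ := get (nat_lit 4) (nat_lit 0xfedcba9867453210) j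

/-- a table -/
def be_ka (j : ℕ) : ℕ := get (nat_lit 4) (nat_lit 0xfedcba9867453210) j

/-- a table -/
def hh_pi (j : ℕ) : ℕ := get (nat_lit 5) (nat_lit 0x7ba106b2105aa104a21039a102921018a1008210) j

/-- a table -/
def hh_ka (j : ℕ) : ℕ := get (nat_lit 5) (nat_lit 0xffb7abda727b96a39862) j

end Cfsg.Lib.U5
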